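import Mathlib
import Cfsg.Agent.LieClassical.OrthCenter
import Cfsg.Agent.LieClassical.OmegaReindex
import Cfsg.Agent.Characters.CentralCharacter
import Cfsg.Agent.FastGrp
import Cfsg.Agent.Prune
set_option linter.all false
prune_inst 0x7ffeffffebfcbbffdfff7ffffedffffdfff97fffeffffdcbffe2e7ff3fdf7b84efcffbaf0ffa93fe1fffe19414f87b53fffffffffb6ffc7ffffdfff41ffbffcffdf7b50951dd9cb41fbe2fff03f0778e7f3fffffffffffffffffffffffffffbeffffffffffff
open scoped Cfsg.Agent.FastGrp

-- part: H977/CS/OrthCls
section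
/-!
# Classes of the orthogonal groups in odd dimension of size prime to the characteristic (S3677, helper977)

Nondegenerate quadratic form in characteristic different from two, `u, v` a hyperbolic pair.

* `siegel_mem` : all the Siegel transformations lie in `Omega`;
* `eq_siegel_of_commute` : an element of `Omega` (odd dimension) commuting with the Siegel transformations at `u` is
  a Siegel transformation at `u`;
* `le_card_class` : lower bound for the size of its class.
-/

set_option autoImplicit false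
set_option linter.unusedSectionVars false

namespace Cfsg.Agent.H977.SepBC

open QuadraticMap Matrix
open Cfsg.Agent.ClassicalGeometry.Reflection
open Cfsg.Agent.LieClassical.OrthCenter
open Cfsg.Agent.LieClassical

variable {ι : Type} [Fintype ι] [DecidableEq ι] {F : Type*} [Field F] {Q : QuadraticForm F (ι → F)}

theorem siegel_mem (h2 : (2 : F) ≠ 0) (hQ : (polarBilin Q).Nondegenerate) {u n0 w : ι → F} (hu : Q u = 0)
    (hu0 : u ≠ 0) (hn : Q n0 ≠ 0) (hun : polar Q u n0 = 0) (hw : polar Q u w = 0) :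
    siegelIso Q u w hu hw ∈ Cfsg.Omega F (⇑Q) := by
  have key : ∀ w' (hw' : polar Q u w' = 0), Q w' ≠ 0 → siegelIso Q u w' hu hw' ∈ Cfsg.Omega F (⇑Q) := by
    intro w' hw' h0
    have h1 : polar Q u ((1 : F) • w') = 0 := by rw [one_smul]; exact hw'
    have := siegelIso_smul_mem_omega hQ hu hu0 h0 hw' 1 h1
    rwa [siegelIso_congr hu h1 hw' (one_smul _ _)] at this
  by_cases h0 : Q w ≠ 0
  · exact key w hw h0
  rw [not_not] at h0
  obtain ⟨c, hc, hc0⟩ : ∃ c : F, c ≠ 0 ∧ Q (w + c • n0) ≠ 0 := by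
    by_contra hcon
    push Not at hcon
    have h1 := hcon 1 one_ne_zero
    have h3 := hcon (-1) (neg_ne_zero.2 one_ne_zero)
    rw [map_add', QuadraticMap.map_smul, polar_smul_right, h0] at h1 h3
    simp only [smul_eq_mul] at h1 h3
    have : 2 * Q n0 = 0 := by linear_combination h1 + h3
    exact (mul_ne_zero h2 hn) this
  have e1 : polar Q u (w + c • n0) = 0 := by rw [polar_add_right, polar_smul_right, hw, hun]; simp
  have e2 : polar Q u (-(c • n0)) = 0 := by rw [polar_neg_right, polar_smul_right, hun]; simp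
  have e3 : Q (-(c • n0)) ≠ 0 := by
    rw [QuadraticMap.map_neg, QuadraticMap.map_smul]
    exact mul_ne_zero (mul_ne_zero hc hc) hn
  have e4 : polar Q u (w + c • n0 + -(c • n0)) = 0 := by rw [add_neg_cancel_right]; exact hw
  have h := mul_mem (key _ e1 hc0) (key _ e2 e3)
  rw [siegelIso_mul hu e1 e2 e4, siegelIso_congr hu e4 hw (add_neg_cancel_right _ _)] at h
  exact h

/-- an isometry commuting with the Siegel transformations at `u` is one of them up to sign -/
theorem eq_siegel_of_commute (h2 : (2 : F) ≠ 0) {u v n0 : ι → F} (hu : Q u = 0)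
    (hv : Q v = 0) (huv : polar Q u v = 1) (hn : Q n0 ≠ 0) (hun : polar Q u n0 = 0)
    (y : Cfsg.isometryGroup F (⇑Q))
    (hy : ∀ w (hw : polar Q u w = 0), y * siegelIso Q u w hu hw = siegelIso Q u w hu hw * y) :
    ∃ l : F, (l = 1 ∨ l = -1) ∧ ∃ w0 : ι → F, ∃ h : polar Q u w0 = 0, polar Q v w0 = 0 ∧
      ∀ x, act Q y x = l • act Q (siegelIso Q u w0 hu h) x := by
  have huu : polar Q u u = 0 := by rw [polar_self', hu, mul_zero]
  have hvv : polar Q v v = 0 := by rw [polar_self', hv, mul_zero]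
  have hvu : polar Q v u = 1 := by rw [polar_comm]; exact huv
  have hnu : polar Q n0 u = 0 := by rw [polar_comm]; exact hun
  have hC : ∀ w, polar Q u w = 0 → ∀ x,
      act Q y x + polar Q u x • act Q y w - polar Q w x • act Q y u - (Q w * polar Q u x) • act Q y u
      = act Q y x + polar Q u (act Q y x) • w - polar Q w (act Q y x) • u
        - (Q w * polar Q u (act Q y x)) • u := by
    intro w hw x
    have h := congrArg (fun g => act Q g x) (hy w hw)
    simp only [act_mul, act_siegelIso] at h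
    rw [act_sub, act_sub, act_add, act_smul, act_smul, act_smul] at h
    exact h
  -- the eigenvector
  obtain ⟨l, hl⟩ : ∃ l : F, act Q y u = l • u := by
    have h := hC n0 hun n0
    rw [hun, zero_smul, mul_zero, zero_smul, add_zero, sub_zero, polar_self'] at h
    set p := polar Q u (act Q y n0) with hp
    set s := polar Q n0 (act Q y n0) with hs
    have h3 : (-(2 * Q n0)) • act Q y u = p • n0 + (-s - Q n0 * p) • u := by
      have e1 : act Q y n0 - (2 * Q n0) • act Q y u = act Q y n0 + (-(2 * Q n0)) • act Q y u := by module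
      rw [e1] at h
      have h4 : (-(2 * Q n0)) • act Q y u = (act Q y n0 + (-(2 * Q n0)) • act Q y u) - act Q y n0 := by abel
      rw [h4, h]
      module
    have h4 : Q ((-(2 * Q n0)) • act Q y u) = 0 := by
      rw [QuadraticMap.map_smul, map_act, hu, smul_zero]
    rw [h3, map_add', QuadraticMap.map_smul, QuadraticMap.map_smul, hu, polar_smul_left,
      polar_smul_right, hnu, smul_zero, smul_zero, smul_zero, add_zero, add_zero, smul_eq_mul] at h4
    have hp0 : p = 0 := by
      rcases mul_eq_zero.1 h4 with h | h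
      · exact mul_self_eq_zero.1 h
      · exact absurd h hn
    rw [hp0, zero_smul, zero_add] at h3
    have hne : -(2 * Q n0) ≠ 0 := neg_ne_zero.2 (mul_ne_zero h2 hn)
    refine ⟨(-(2 * Q n0))⁻¹ * (-s - Q n0 * 0), ?_⟩
    rw [mul_smul, ← h3, smul_smul, inv_mul_cancel₀ hne, one_smul]
  obtain ⟨z, hz⟩ : ∃ z, z = act Q y v := ⟨_, rfl⟩
  have hlz : l * polar Q u z = 1 := by
    have h := polar_act y u v
    rw [hl, polar_smul_left, huv, smul_eq_mul, ← hz] at h
    exact h
  have hl0 : l ≠ 0 := left_ne_zero_of_mul_eq_one hlz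
  have huz : polar Q u z = l⁻¹ := eq_inv_of_mul_eq_one_right hlz
  have hW : ∀ w, polar Q u w = 0 → act Q y w = l⁻¹ • w +
      (polar Q w v * l + Q w * l - polar Q w z - Q w * l⁻¹) • u := by
    intro w hw
    have h := hC w hw v
    rw [huv, one_smul, mul_one, ← hz, huz, hl] at h
    have h' : act Q y w = (z + act Q y w - polar Q w v • l • u - Q w • l • u) - z
        + polar Q w v • l • u + Q w • l • u := by abel
    rw [h', h]
    module
  have hll : l * l = 1 := by
    have h := map_act y n0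
    rw [hW n0 hun, map_add', QuadraticMap.map_smul, QuadraticMap.map_smul, hu, polar_smul_left, polar_smul_right,
      hnu] at h
    simp only [smul_eq_mul, mul_zero, add_zero] at h
    have h3 : l⁻¹ * l⁻¹ = 1 := by
      apply mul_right_cancel₀ hn
      rw [h, one_mul]
    have h4 : (l * l) * (l⁻¹ * l⁻¹) = 1 := by field_simp
    rw [h3, mul_one] at h4
    exact h4
  have hli : l⁻¹ = l := inv_eq_of_mul_eq_one_right hll
  rw [hli] at huz
  have hW' : ∀ w, polar Q u w = 0 → act Q y w = l • w + (l * polar Q w v - polar Q w z) • u := by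
    intro w hw
    rw [hW w hw, hli]
    congr 2
    ring
  have hQz : Q z = 0 := by rw [hz, map_act, hv]
  obtain ⟨w0, hw0⟩ : ∃ w0, w0 = l • z - v - (l * polar Q v z) • u := ⟨_, rfl⟩
  have hzu : polar Q z u = l := by rw [polar_comm]; exact huz
  have huw : polar Q u w0 = 0 := by
    rw [hw0, polar_sub_right, polar_sub_right, polar_smul_right, polar_smul_right, huz, huv, huu, smul_eq_mul, hll]
    simp
  have hvw : polar Q v w0 = 0 := by
    rw [hw0, polar_sub_right, polar_sub_right, polar_smul_right, polar_smul_right, hvv, hvu, smul_eq_mul]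
    simp
  have hwu : polar Q w0 u = 0 := by rw [polar_comm]; exact huw
  have hwv : polar Q w0 v = 0 := by rw [polar_comm]; exact hvw
  have hz2 : z = l • (v + w0 + (l * polar Q v z) • u) := by
    rw [hw0]
    have : l • (v + (l • z - v - (l * polar Q v z) • u) + (l * polar Q v z) • u) = (l * l) • z := by module
    rw [this, hll, one_smul]
  have hc : l * polar Q v z = - Q w0 := by
    have h := hQz
    rw [hz2, QuadraticMap.map_smul, map_add', map_add', QuadraticMap.map_smul, polar_smul_right, polar_add_left, hv,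
      hu, hvw, hvu, hwu, smul_eq_mul, hll] at h
    simp only [smul_eq_mul, mul_zero, add_zero, zero_add, one_mul, mul_one] at h
    linear_combination h
  rw [hc] at hz2
  refine ⟨l, mul_self_eq_one_iff.1 hll, w0, huw, hvw, fun x => ?_⟩
  obtain ⟨t, ht⟩ : ∃ t, t = polar Q u x := ⟨_, rfl⟩
  have hx' : polar Q u (x - t • v) = 0 := by
    rw [polar_sub_right, polar_smul_right, huv, ← ht, smul_eq_mul, mul_one, sub_self]
  have e1 : x = (x - t • v) + t • v := by abel
  have e2 : act Q y x = act Q y (x - t • v) + t • z := by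
    conv_lhs => rw [e1]
    rw [act_add, act_smul, hz]
  have e3 : polar Q (x - t • v) z = l * (polar Q (x - t • v) v + polar Q (x - t • v) w0) := by
    have hxu : polar Q (x - t • v) u = 0 := by rw [polar_comm]; exact hx'
    rw [hz2, polar_smul_right, polar_add_right, polar_add_right, polar_smul_right, hxu]
    simp only [smul_eq_mul, mul_zero, add_zero]
  have e4 : polar Q (x - t • v) w0 = polar Q w0 x := by
    rw [polar_sub_left, polar_smul_left, hvw, polar_comm Q x w0]
    simp
  rw [e2, hW' _ hx', e3, e4, act_siegelIso, ← ht, hz2]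
  have e5 : l * polar Q (x - t • v) v - l * (polar Q (x - t • v) v + polar Q w0 x) = - (l * polar Q w0 x) := by ring
  rw [e5]
  module

/-- an element of `Omega` in odd dimension commuting with the Siegel transformations at `u` is one of them -/
theorem eq_siegel_of_mem_omega (h2 : (2 : F) ≠ 0) (hQ : (polarBilin Q).Nondegenerate) (hodd : Odd (Fintype.card ι))
    {u v n0 : ι → F} (hu : Q u = 0)
    (hv : Q v = 0) (huv : polar Q u v = 1) (hn : Q n0 ≠ 0) (hun : polar Q u n0 = 0)
    (y : Cfsg.isometryGroup F (⇑Q)) (hyO : y ∈ Cfsg.Omega F (⇑Q))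
    (hy : ∀ w (hw : polar Q u w = 0), y * siegelIso Q u w hu hw = siegelIso Q u w hu hw * y) :
    ∃ w0 : ι → F, ∃ h : polar Q u w0 = 0, polar Q v w0 = 0 ∧ y = siegelIso Q u w0 hu h := by
  obtain ⟨l, hl, w0, h, hvw, hx⟩ := eq_siegel_of_commute h2 hu hv huv hn hun y hy
  refine ⟨w0, h, hvw, ?_⟩
  have hu0 : u ≠ 0 := by
    rintro rfl
    rw [polar_zero_left] at huv
    exact zero_ne_one huv
  rcases hl with rfl | rfl
  · apply act_ext
    intro x
    rw [hx, one_smul]
  · exfalso
    have hS := siegel_mem h2 hQ hu hu0 hn hun h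
    have hmat : ((y : Matrix.GeneralLinearGroup ι F) : Matrix ι ι F)
        = -((siegelIso Q u w0 hu h : Matrix.GeneralLinearGroup ι F) : Matrix ι ι F) := by
      apply Matrix.mulVec_injective
      funext x
      have := hx x
      rw [neg_smul, one_smul] at this
      rw [Matrix.neg_mulVec]
      exact this
    have h3 := det_of_mem_omega y hyO
    have h4 := det_of_mem_omega _ hS
    rw [hmat, Matrix.det_neg, h4, hodd.neg_one_pow, mul_one] at h3
    apply h2
    linear_combination -h3

/-! ### Counting -/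

theorem card_le_mul {A B C : Type*} [Finite A] [Finite B] [Finite C] (f : A → B)
    (h : ∀ a0 : A, ∃ g : A → C, ∀ a a', f a = f a0 → f a' = f a0 → g a = g a' → a = a') :
    Nat.card A ≤ Nat.card C * Nat.card B := by
  classical
  rw [← Nat.card_prod]
  rcases isEmpty_or_nonempty A with hA | hA
  · simp only [_root_.Nat.card_of_isEmpty, _root_.Nat.card_prod, _root_.zero_le]
  obtain ⟨s, hs⟩ : ∃ s : B → A, ∀ a, f (s (f a)) = f a :=
    ⟨Function.invFun f, fun a => Function.invFun_eq ⟨a, rfl⟩⟩
  choose g hg using h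
  apply Nat.card_le_card_of_injective (fun a => (g (s (f a)) a, f a))
  intro a a' haa
  rw [Prod.mk.injEq] at haa
  obtain ⟨h1, h2⟩ := haa
  rw [← h2] at h1
  exact hg (s (f a)) a a' (hs a).symm (by rw [hs a, h2]) h1

/-- the vectors orthogonal to `k` given vectors -/
noncomputable def perp (Q : QuadraticForm F (ι → F)) {k : ℕ} (t : Fin k → ι → F) : Submodule F (ι → F) :=
  LinearMap.ker (LinearMap.pi fun i => polarBilin Q (t i))

theorem mem_perp {k : ℕ} {t : Fin k → ι → F} {x : ι → F} : x ∈ perp Q t ↔ ∀ i, polar Q (t i) x = 0 := by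
  rw [perp, LinearMap.mem_ker]
  constructor
  · intro h i
    exact congrFun h i
  · intro h
    funext i
    exact h i

theorem le_card_perp [Finite F] {k : ℕ} (t : Fin k → ι → F) :
    Nat.card F ^ (Fintype.card ι - k) ≤ Nat.card (perp Q t) := by
  have := Fintype.ofFinite F
  rw [Module.natCard_eq_pow_finrank (K := F) (V := perp Q t)]
  apply Nat.pow_le_pow_right Nat.card_pos
  have h := LinearMap.finrank_range_add_finrank_ker (LinearMap.pi fun i => polarBilin Q (t i) :
    (ι → F) →ₗ[F] (Fin k → F))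
  have h1 := Submodule.finrank_le (LinearMap.range (LinearMap.pi fun i => polarBilin Q (t i) :
    (ι → F) →ₗ[F] (Fin k → F)))
  rw [Module.finrank_fintype_fun_eq_card, Fintype.card_fin] at h1
  rw [Module.finrank_fintype_fun_eq_card] at h
  rw [perp]
  omega

theorem act_conj_act (T S : Cfsg.isometryGroup F (⇑Q)) (x : ι → F) :
    act Q (T * S * T⁻¹) (act Q T x) = act Q T (act Q S x) := by
  rw [act_mul, act_mul, act_inv_act]

theorem conj_fix (E S : Cfsg.isometryGroup F (⇑Q)) {x : ι → F} (h : act Q E x = x) :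
    act Q (E * S * E⁻¹) x = act Q E (act Q S x) := by
  have := act_conj_act E S x
  rwa [h] at this

/-- lower bound for the size of the class of a Siegel transformation `siegelIso Q u w0` with `w0` nonsingular or singular -/
theorem le_card_class [Finite F] (h2 : (2 : F) ≠ 0) (hQ : (polarBilin Q).Nondegenerate) {u v w0 a n0 : ι → F}
    (hu : Q u = 0) (hv : Q v = 0) (huv : polar Q u v = 1) (hn : Q n0 ≠ 0) (hvn : polar Q v n0 = 0)
    (huw : polar Q u w0 = 0) (hvw : polar Q v w0 = 0) (ha : Q a = 0) (hua : polar Q u a = 0)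
    (hva : polar Q v a = 0) (haw : polar Q a w0 ≠ 0) (y : Cfsg.Omega F (⇑Q))
    (hy : (y : Cfsg.isometryGroup F (⇑Q)) = siegelIso Q u w0 hu huw) :
    Nat.card F ^ (Fintype.card ι - 2) * Nat.card F ^ (Fintype.card ι - 4) ≤
      Nat.card F ^ 2 * Nat.card {z // IsConj y z} := by
  classical
  obtain ⟨k, hk⟩ : ∃ k, k = polar Q a w0 := ⟨_, rfl⟩
  rw [← hk] at haw
  have hvu : polar Q v u = 1 := by rw [polar_comm]; exact huv
  have hau : polar Q a u = 0 := by rw [polar_comm]; exact hua
  have hav : polar Q a v = 0 := by rw [polar_comm]; exact hva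
  have hwv : polar Q w0 v = 0 := by rw [polar_comm]; exact hvw
  have hwa : polar Q w0 a = k := by rw [polar_comm, hk]
  have haa : polar Q a a = 0 := by rw [polar_self', ha, mul_zero]
  have hv0 : v ≠ 0 := by
    rintro rfl
    rw [polar_zero_right] at huv
    exact zero_ne_one huv
  have ha0 : a ≠ 0 := by
    rintro rfl
    rw [polar_zero_left] at hk
    exact haw hk
  have hn1 : Q (u + v) ≠ 0 := by
    rw [map_add', hu, hv, huv]; simp
  have han1 : polar Q a (u + v) = 0 := by rw [polar_add_right, hau, hav, add_zero]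
  -- the parameters
  have hc1 : ∀ c : perp Q ![u, v], polar Q u c = 0 := fun c => mem_perp.1 c.2 0
  have hc2 : ∀ c : perp Q ![u, v], polar Q v c = 0 := fun c => mem_perp.1 c.2 1
  have hb1 : ∀ b : perp Q ![u, v, a, w0], polar Q u b = 0 := fun b => mem_perp.1 b.2 0
  have hb2 : ∀ b : perp Q ![u, v, a, w0], polar Q v b = 0 := fun b => mem_perp.1 b.2 1
  have hb3 : ∀ b : perp Q ![u, v, a, w0], polar Q a b = 0 := fun b => mem_perp.1 b.2 2
  have hb4 : ∀ b : perp Q ![u, v, a, w0], polar Q w0 b = 0 := fun b => mem_perp.1 b.2 3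
  obtain ⟨g, hg, hgO⟩ : ∃ g : perp Q ![u, v] → Cfsg.isometryGroup F (⇑Q),
      (∀ c, g c = siegelIso Q v c hv (hc2 c)) ∧ ∀ c, g c ∈ Cfsg.Omega F (⇑Q) :=
    ⟨fun c => siegelIso Q v c hv (hc2 c), fun c => rfl, fun c => siegel_mem h2 hQ hv hv0 hn hvn (hc2 c)⟩
  obtain ⟨E, hE, hEO⟩ : ∃ E : perp Q ![u, v, a, w0] → Cfsg.isometryGroup F (⇑Q),
      (∀ b, E b = siegelIso Q a b ha (hb3 b)) ∧ ∀ b, E b ∈ Cfsg.Omega F (⇑Q) :=
    ⟨fun b => siegelIso Q a b ha (hb3 b), fun c => rfl, fun b => siegel_mem h2 hQ ha ha0 hn1 han1 (hb3 b)⟩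
  have hEu : ∀ b, act Q (E b) u = u := by
    intro b
    rw [hE, act_siegelIso, hau, polar_comm Q b u, hb1]; simp
  have hEv : ∀ b, act Q (E b) v = v := by
    intro b
    rw [hE, act_siegelIso, hav, polar_comm Q b v, hb2]; simp
  have hEw : ∀ b, act Q (E b) w0 = w0 + k • (b : ι → F) - (Q b * k) • a := by
    intro b
    rw [hE, act_siegelIso, ← hk, polar_comm Q b w0, hb4]; simp only [_root_.Nat.succ_eq_add_one, _root_.Nat.reduceAdd, _root_.zero_smul, _root_.sub_zero]
  have hgu : ∀ c, act Q (g c) u = u + (c : ι → F) - Q c • v := by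
    intro c
    rw [hg, act_siegelIso, hvu, polar_comm Q c u, hc1]; simp only [_root_.Nat.succ_eq_add_one, _root_.Nat.reduceAdd, _root_.one_smul, _root_.zero_smul, _root_.sub_zero, _root_.mul_one]
  have hSa : act Q (y : Cfsg.isometryGroup F (⇑Q)) a = a - k • u := by
    rw [hy, act_siegelIso, hua, hwa]; simp
  have hSv : act Q (y : Cfsg.isometryGroup F (⇑Q)) v = v + w0 - Q w0 • u := by
    rw [hy, act_siegelIso, huv, hwv]; simp only [_root_.one_smul, _root_.zero_smul, _root_.sub_zero, _root_.mul_one]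
  have hSx : ∀ x, act Q (y : Cfsg.isometryGroup F (⇑Q)) x
      = x + polar Q u x • w0 - polar Q w0 x • u - (Q w0 * polar Q u x) • u := by
    intro x
    rw [hy, act_siegelIso]
  -- the map to the class
  obtain ⟨f, hf⟩ : ∃ f : perp Q ![u, v] × perp Q ![u, v, a, w0] → {z // IsConj y z},
      ∀ p, (((f p : {z // IsConj y z}) : Cfsg.Omega F (⇑Q)) : Cfsg.isometryGroup F (⇑Q))
        = (g p.1 * E p.2) * y * (g p.1 * E p.2)⁻¹ := by
    obtain ⟨T, hT⟩ : ∃ T : perp Q ![u, v] × perp Q ![u, v, a, w0] → Cfsg.Omega F (⇑Q),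
        ∀ p, ((T p : Cfsg.Omega F (⇑Q)) : Cfsg.isometryGroup F (⇑Q)) = g p.1 * E p.2 :=
      ⟨fun p => ⟨g p.1 * E p.2, mul_mem (hgO _) (hEO _)⟩, fun p => rfl⟩
    refine ⟨fun p => ⟨T p * y * (T p)⁻¹, isConj_iff.2 ⟨_, rfl⟩⟩, fun p => ?_⟩
    rw [Subgroup.coe_mul, Subgroup.coe_mul, Subgroup.coe_inv, hT]
  have key := card_le_mul (C := F × F) f (by
    rintro ⟨c0, b0⟩
    have h1 : ∀ p : perp Q ![u, v] × perp Q ![u, v, a, w0], ∃ r : F × F, f p = f (c0, b0) →
        act Q (g p.1) u = r.1 • act Q (g c0 * E b0) w0 + r.2 • act Q (g c0 * E b0) u := by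
      rintro ⟨c, b⟩
      by_cases hp : f (c, b) = f (c0, b0)
      · have h3 : (g c * E b) * (y : Cfsg.isometryGroup F (⇑Q)) * (g c * E b)⁻¹
            = (g c0 * E b0) * (y : Cfsg.isometryGroup F (⇑Q)) * (g c0 * E b0)⁻¹ := by
          rw [← hf (c, b), ← hf (c0, b0), hp]
        have h4 := act_conj_act (g c * E b) (y : Cfsg.isometryGroup F (⇑Q)) a
        rw [h3, hSa] at h4
        obtain ⟨x, hx⟩ : ∃ x, act Q (g c0 * E b0) x = act Q (g c * E b) a :=
          ⟨act Q (g c0 * E b0)⁻¹ (act Q (g c * E b) a), act_act_inv _ _⟩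
        rw [← hx, act_conj_act, hSx, act_sub, act_sub, act_sub, act_add, act_smul, act_smul, act_smul, act_smul,
          act_mul (g c) (E b) u, hEu, ← hx] at h4
        obtain ⟨s, hs⟩ : ∃ s, s = polar Q u x := ⟨_, rfl⟩
        obtain ⟨t, ht⟩ : ∃ t, t = polar Q w0 x := ⟨_, rfl⟩
        rw [← hs, ← ht] at h4
        refine ⟨(-(k⁻¹ * s), k⁻¹ * (t + Q w0 * s)), fun _ => ?_⟩
        have h5 : k • act Q (g c) u = (-s) • act Q (g c0 * E b0) w0 + (t + Q w0 * s) • act Q (g c0 * E b0) u := by
          have : k • act Q (g c) u = act Q (g c0 * E b0) x - (act Q (g c0 * E b0) x - k • act Q (g c) u) := by abel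
          rw [this, ← h4]
          module
        have h6 : act Q (g c) u = k⁻¹ • (k • act Q (g c) u) := by
          rw [smul_smul, inv_mul_cancel₀ haw, one_smul]
        change act Q (g c) u = _
        rw [h6, h5]
        module
      · exact ⟨0, fun h => absurd h hp⟩
    choose r hr using h1
    refine ⟨r, ?_⟩
    rintro ⟨c, b⟩ ⟨c', b'⟩ h h' hrr
    have e1 := hr _ h
    have e2 := hr _ h'
    rw [hrr, ← e2] at e1
    change act Q (g c) u = act Q (g c') u at e1
    rw [hgu, hgu] at e1
    have hcc : c = c' := by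
      have e3 := congrArg (polar Q u) e1
      simp only [polar_add_right, polar_sub_right, polar_smul_right, hc1, huv, smul_eq_mul, mul_one, add_zero] at e3
      have e4 : Q c = Q c' := by linear_combination -e3
      rw [e4] at e1
      apply Subtype.ext
      have e5 : (c : ι → F) = (u + (c : ι → F) - Q c' • v) - u + Q c' • v := by abel
      rw [e5, e1]
      abel
    subst hcc
    have h3 : (g c * E b) * (y : Cfsg.isometryGroup F (⇑Q)) * (g c * E b)⁻¹
        = (g c * E b') * (y : Cfsg.isometryGroup F (⇑Q)) * (g c * E b')⁻¹ := by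
      rw [← hf (c, b), ← hf (c, b'), h, h']
    have h4 : E b * (y : Cfsg.isometryGroup F (⇑Q)) * (E b)⁻¹ = E b' * (y : Cfsg.isometryGroup F (⇑Q)) * (E b')⁻¹ := by
      have e1 : ∀ e : Cfsg.isometryGroup F (⇑Q), (g c * e) * (y : Cfsg.isometryGroup F (⇑Q)) * (g c * e)⁻¹
          = g c * (e * (y : Cfsg.isometryGroup F (⇑Q)) * e⁻¹) * (g c)⁻¹ := by intro e; group
      rw [e1, e1] at h3
      exact mul_left_cancel (mul_right_cancel h3)
    have h5 := congrArg (fun S => act Q S v) h4
    rw [conj_fix _ _ (hEv b), conj_fix _ _ (hEv b'), hSv, act_sub, act_sub, act_add, act_add, act_smul, act_smul,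
      hEv, hEv, hEu, hEu, hEw, hEw] at h5
    have h6 : k • (b : ι → F) - (Q b * k) • a = k • (b' : ι → F) - (Q b' * k) • a := by
      have e1 : k • (b : ι → F) - (Q b * k) • a
        = (v + (w0 + k • (b : ι → F) - (Q b * k) • a) - Q w0 • u) - v - w0 + Q w0 • u := by abel
      rw [e1, h5]; abel
    have h7 := congrArg (polar Q w0) h6
    simp only [polar_sub_right, polar_smul_right, hb4, hwa, smul_eq_mul, mul_zero, zero_sub] at h7
    have h8 : Q b = Q b' := mul_right_cancel₀ haw (mul_right_cancel₀ haw (neg_injective h7))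
    rw [h8] at h6
    have h9 : k • (b : ι → F) = k • (b' : ι → F) := sub_left_injective h6
    have h10 : (b : ι → F) = (b' : ι → F) := by
      have := congrArg (fun x => k⁻¹ • x) h9
      rwa [smul_smul, smul_smul, inv_mul_cancel₀ haw, one_smul, one_smul] at this
    rw [Subtype.ext h10])
  rw [Nat.card_prod, Nat.card_prod, ← pow_two] at key
  exact (Nat.mul_le_mul (le_card_perp _) (le_card_perp _)).trans key

end Cfsg.Agent.H977.SepBC
end

-- part: H977/CS/OrthInd
section
/-!
# Classes of `Omega` in odd dimension of size prime to the characteristic (S3677, helper977)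
-/

set_option autoImplicit false
set_option linter.unusedSectionVars false

namespace Cfsg.Agent.H977.SepBC

open QuadraticMap Matrix
open Cfsg.Agent.ClassicalGeometry.Reflection
open Cfsg.Agent.LieClassical.OrthCenter
open Cfsg.Agent.LieClassical

/-- a `p`-subgroup commutes with a conjugate of each element whose class has size prime to `p` -/
theorem exists_conj_commute {G : Type*} [Group G] [Finite G] {p : ℕ} [Fact p.Prime] {R : Subgroup G}
    (hR : IsPGroup p R) (x : G) (hx : ¬ p ∣ (Subgroup.centralizer ({x} : Set G)).index) :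
    ∃ g : G, ∀ r ∈ R, r * (g * x * g⁻¹) = (g * x * g⁻¹) * r := by
  obtain ⟨q, hq⟩ := hR.nonempty_fixed_point_of_prime_not_dvd_card (G ⧸ Subgroup.centralizer ({x} : Set G)) hx
  obtain ⟨g, rfl⟩ := QuotientGroup.mk_surjective q
  refine ⟨g, fun r hr => ?_⟩
  have h := hq ⟨r, hr⟩
  have h1 : ((r * g : G) : G ⧸ Subgroup.centralizer ({x} : Set G)) = (g : G ⧸ Subgroup.centralizer ({x} : Set G)) := h
  rw [eq_comm, QuotientGroup.eq, Subgroup.mem_centralizer_singleton_iff] at h1
  have h2 : g * (g⁻¹ * (r * g) * x) * g⁻¹ = g * (x * (g⁻¹ * (r * g))) * g⁻¹ := by rw [h1]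
  have e1 : g * (g⁻¹ * (r * g) * x) * g⁻¹ = r * (g * x * g⁻¹) := by group
  have e2 : g * (x * (g⁻¹ * (r * g))) * g⁻¹ = (g * x * g⁻¹) * r := by group
  rw [← e1, ← e2, h2]

variable {ι : Type} [Fintype ι] [DecidableEq ι] {F : Type*} [Field F] {Q : QuadraticForm F (ι → F)}

theorem siegelIso_zero {u : ι → F} (hu : Q u = 0) (h : polar Q u 0 = 0) : siegelIso Q u 0 hu h = 1 := by
  apply act_ext
  intro x
  rw [act_siegelIso, act_one, polar_zero_left]
  simp

/-- the Siegel transformations at `u` which lie in `Omega` -/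
noncomputable def sieg (Q : QuadraticForm F (ι → F)) {u : ι → F} (hu : Q u = 0) : Subgroup (Cfsg.Omega F (⇑Q)) where
  carrier := {g | ∃ w, ∃ h : polar Q u w = 0, (g : Cfsg.isometryGroup F (⇑Q)) = siegelIso Q u w hu h}
  one_mem' := ⟨0, polar_zero_right Q u, (siegelIso_zero hu _).symm⟩
  mul_mem' := by
    rintro g g' ⟨w, h, hg⟩ ⟨w', h', hg'⟩
    have h1 : polar Q u (w + w') = 0 := by rw [polar_add_right, h, h', add_zero]
    refine ⟨w + w', h1, ?_⟩
    rw [Subgroup.coe_mul, hg, hg', siegelIso_mul hu h h' h1]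
  inv_mem' := by
    rintro g ⟨w, h, hg⟩
    have h1 : polar Q u (-w) = 0 := by rw [polar_neg_right, h, neg_zero]
    refine ⟨-w, h1, ?_⟩
    rw [Subgroup.coe_inv, hg, siegelIso_inv hu h h1]

theorem mem_sieg {u : ι → F} {hu : Q u = 0} {g : Cfsg.Omega F (⇑Q)} :
    g ∈ sieg Q hu ↔ ∃ w, ∃ h : polar Q u w = 0, (g : Cfsg.isometryGroup F (⇑Q)) = siegelIso Q u w hu h := Iff.rfl

theorem siegelIso_pow {u w : ι → F} (hu : Q u = 0) (hw : polar Q u w = 0) (k : ℕ) (h : polar Q u (k • w) = 0) :
    siegelIso Q u w hu hw ^ k = siegelIso Q u (k • w) hu h := by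
  induction k with
  | zero =>
    rw [pow_zero, siegelIso_congr hu h (polar_zero_right Q u) (zero_smul ℕ w), siegelIso_zero]
  | succ k ih =>
    have h1 : ∀ j : ℕ, polar Q u (j • w) = 0 := by
      intro j
      rw [← Nat.cast_smul_eq_nsmul F, polar_smul_right, hw, smul_zero]
    have h2 : polar Q u (k • w + w) = 0 := by rw [polar_add_right, h1, hw, add_zero]
    rw [pow_succ, ih (h1 k), siegelIso_mul hu (h1 k) hw h2]
    exact siegelIso_congr hu h2 h (succ_nsmul _ _).symm

theorem isPGroup_sieg {p : ℕ} [CharP F p] {u : ι → F} (hu : Q u = 0) : IsPGroup p (sieg Q hu) := by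
  rintro ⟨g, w, h, hg⟩
  refine ⟨1, ?_⟩
  apply Subtype.ext
  apply Subtype.ext
  have h0 : p • w = 0 := by
    rw [← Nat.cast_smul_eq_nsmul F p w, CharP.cast_eq_zero, zero_smul]
  have h1 : polar Q u (p • w) = 0 := by rw [h0]; exact polar_zero_right Q u
  rw [pow_one]
  change (g : Cfsg.isometryGroup F (⇑Q)) ^ p = 1
  rw [hg, siegelIso_pow hu h p h1, siegelIso_congr hu h1 (polar_zero_right Q u) h0, siegelIso_zero]

/-- a hyperbolic frame of rank two -/
structure Fr (Q : QuadraticForm F (ι → F)) (u v e f : ι → F) : Prop where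
  hu : Q u = 0
  hv : Q v = 0
  he : Q e = 0
  hf : Q f = 0
  uv : polar Q u v = 1
  ef : polar Q e f = 1
  ue : polar Q u e = 0
  uf : polar Q u f = 0
  ve : polar Q v e = 0
  vf : polar Q v f = 0

/-- a nonzero vector orthogonal to `u`, `v` is not orthogonal to all the singular vectors orthogonal to `u`, `v` -/
theorem Fr.exists_sing {u v e f : ι → F} (H : Fr Q u v e f) (hQ : (polarBilin Q).Nondegenerate) {w : ι → F}
    (hw : w ≠ 0) (huw : polar Q u w = 0) (hvw : polar Q v w = 0) :
    ∃ a, Q a = 0 ∧ polar Q u a = 0 ∧ polar Q v a = 0 ∧ polar Q a w ≠ 0 := by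
  by_cases h1 : polar Q e w = 0
  swap
  · exact ⟨e, H.he, H.ue, H.ve, h1⟩
  by_cases h2 : polar Q f w = 0
  swap
  · exact ⟨f, H.hf, H.uf, H.vf, h2⟩
  obtain ⟨t, ht⟩ : ∃ t, polar Q t w ≠ 0 := by
    by_contra hcon
    push Not at hcon
    exact hw (OrthCore.nondeg_of_nondegenerate hQ w fun x => by rw [polar_comm]; exact hcon x)
  have hvu : polar Q v u = 1 := by rw [polar_comm]; exact H.uv
  have hfe : polar Q f e = 1 := by rw [polar_comm]; exact H.ef
  have heu : polar Q e u = 0 := by rw [polar_comm]; exact H.ue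
  have hev : polar Q e v = 0 := by rw [polar_comm]; exact H.ve
  have hfu : polar Q f u = 0 := by rw [polar_comm]; exact H.uf
  have hfv : polar Q f v = 0 := by rw [polar_comm]; exact H.vf
  have huu : polar Q u u = 0 := by rw [polar_self', H.hu, mul_zero]
  have hvv : polar Q v v = 0 := by rw [polar_self', H.hv, mul_zero]
  have hee : polar Q e e = 0 := by rw [polar_self', H.he, mul_zero]
  have hff : polar Q f f = 0 := by rw [polar_self', H.hf, mul_zero]
  obtain ⟨b, hb⟩ : ∃ b, b = t - polar Q u t • v - polar Q v t • u - polar Q e t • f - polar Q f t • e := ⟨_, rfl⟩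
  have hub : polar Q u b = 0 := by
    rw [hb]
    simp only [polar_sub_right, polar_smul_right, H.uv, huu, H.uf, H.ue, smul_eq_mul]
    ring
  have hvb : polar Q v b = 0 := by
    rw [hb]
    simp only [polar_sub_right, polar_smul_right, hvu, hvv, H.vf, H.ve, smul_eq_mul]
    ring
  have heb : polar Q e b = 0 := by
    rw [hb]
    simp only [polar_sub_right, polar_smul_right, H.ef, hee, hev, heu, smul_eq_mul]
    ring
  have hfb : polar Q f b = 0 := by
    rw [hb]
    simp only [polar_sub_right, polar_smul_right, hfe, hff, hfv, hfu, smul_eq_mul]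
    ring
  have hbw : polar Q b w = polar Q t w := by
    rw [hb]
    simp only [polar_sub_left, polar_smul_left, huw, hvw, h1, h2, smul_zero, sub_zero]
  refine ⟨e + b + (-Q b) • f, ?_, ?_, ?_, ?_⟩
  · rw [map_add', map_add', QuadraticMap.map_smul, H.he, H.hf, heb, polar_smul_right, polar_add_left, H.ef,
      polar_comm Q b f, hfb, smul_eq_mul, smul_eq_mul]
    ring
  · rw [polar_add_right, polar_add_right, polar_smul_right, H.ue, hub, H.uf]; simp
  · rw [polar_add_right, polar_add_right, polar_smul_right, H.ve, hvb, H.vf]; simp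
  · rw [polar_add_left, polar_add_left, polar_smul_left, h1, h2, hbw]; simpa using ht

/-- the classes of `Omega` (odd dimension, odd characteristic `p`) different from `1` of size prime to `p` are large -/
theorem Fr.le_index [Finite F] {u v e f : ι → F} (H : Fr Q u v e f) (h2 : (2 : F) ≠ 0)
    (hQ : (polarBilin Q).Nondegenerate) (hodd : Odd (Fintype.card ι)) (hn : 3 ≤ Fintype.card ι)
    {p : ℕ} [Fact p.Prime] [CharP F p] (x : Cfsg.Omega F (⇑Q)) (hx1 : x ≠ 1)
    (hx : ¬ p ∣ (Subgroup.centralizer ({x} : Set (Cfsg.Omega F (⇑Q)))).index) :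
    Nat.card F ^ (Fintype.card ι - 2) * Nat.card F ^ (Fintype.card ι - 4) ≤
      Nat.card F ^ 2 * (Subgroup.centralizer ({x} : Set (Cfsg.Omega F (⇑Q)))).index := by
  have := Fintype.ofFinite F
  obtain ⟨n0, hun, hvn, hn0⟩ := exists_nonsing_perp hQ hn H.hu H.hv H.uv
  have hu0 : u ≠ 0 := by
    rintro rfl
    have := H.uv
    rw [polar_zero_left] at this
    exact zero_ne_one this
  obtain ⟨g, hg⟩ := exists_conj_commute (isPGroup_sieg (Q := Q) (p := p) H.hu) x hx
  obtain ⟨w0, huw, hvw, hy⟩ := eq_siegel_of_mem_omega h2 hQ hodd H.hu H.hv H.uv hn0 hun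
    ((g * x * g⁻¹ : Cfsg.Omega F (⇑Q)) : Cfsg.isometryGroup F (⇑Q)) (g * x * g⁻¹).2 (by
      intro w hw
      have := hg ⟨siegelIso Q u w H.hu hw, siegel_mem h2 hQ H.hu hu0 hn0 hun hw⟩ ⟨w, hw, rfl⟩
      exact (congrArg Subtype.val this).symm)
  have hw0 : w0 ≠ 0 := by
    rintro rfl
    apply hx1
    rw [siegelIso_zero] at hy
    have h1 : g * x * g⁻¹ = 1 := Subtype.ext hy
    exact conj_eq_one_iff.1 h1
  obtain ⟨a, ha, hua, hva, haw⟩ := H.exists_sing hQ hw0 huw hvw
  have key := le_card_class h2 hQ H.hu H.hv H.uv hn0 hvn huw hvw ha hua hva haw _ hy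
  refine key.trans (Nat.mul_le_mul_left _ ?_)
  rw [Characters.CentralCharacter.index_centralizer_eq_card]
  apply Nat.card_le_card_of_injective
    (fun z : {z // IsConj (g * x * g⁻¹) z} => (⟨z.1, (isConj_iff.2 ⟨g, rfl⟩ : IsConj x (g * x * g⁻¹)).trans z.2⟩ :
      {z // IsConj x z}))
  intro z z' hzz
  rw [Subtype.mk.injEq] at hzz
  exact Subtype.ext hzz

end Cfsg.Agent.H977.SepBC
end

private theorem dce_7e524b0c0360 : _root_.True := by
  try have : _root_.True := by simp only [_root_.Cfsg.Agent.H977.SepBC.perp.eq_1]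
  exact _root_.True.intro
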